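import Mathlib

universe u
open CategoryTheory Limits MorphismProperty AlgebraicGeometry TopologicalSpace

namespace Groth.Agent.AffTest

theorem isOpenMap_of_isPullback_inducing {X' T' X T : Scheme.{u}} {j : X' ⟶ X} {f' : X' ⟶ T'} {f : X ⟶ T} {i : T' ⟶ T}
    (h : IsPullback j f' f i) (hj : Topology.IsInducing j) (hf : IsOpenMap f) : IsOpenMap f' := by
  intro s hs
  obtain ⟨s', hs', rfl⟩ := hj.isOpen_iff.mp hs
  rw [Scheme.image_preimage_eq_of_isPullback h]
  exact (hf _ hs').preimage i.continuous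

theorem isClosedMap_of_isPullback_inducing {X' T' X T : Scheme.{u}} {j : X' ⟶ X} {f' : X' ⟶ T'} {f : X ⟶ T} {i : T' ⟶ T}
    (h : IsPullback j f' f i) (hj : Topology.IsInducing j) (hf : IsClosedMap f) : IsClosedMap f' := by
  intro s hs
  obtain ⟨s', hs', rfl⟩ := hj.isClosed_iff.mp hs
  rw [Scheme.image_preimage_eq_of_isPullback h]
  exact (hf _ hs').preimage i.continuous

theorem reindex_SpecMap {m n : Type u} (i : m → n) (R : CommRingCat.{u}) :
    AffineSpace.reindex i (Spec R) = (AffineSpace.SpecIso n R).hom ≫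
      Spec.map (CommRingCat.ofHom (MvPolynomial.rename (R := R) i).toRingHom) ≫ (AffineSpace.SpecIso m R).inv := by
  rw [← Iso.inv_comp_eq]
  ext1
  · simp only [Category.assoc, AffineSpace.reindex_over, AffineSpace.SpecIso_inv_over, ← Spec.map_comp, ← CommRingCat.ofHom_comp]
    congr 2
    exact (MvPolynomial.rename i).comp_algebraMap.symm
  · simp only [TopologicalSpace.Opens.map_top, Scheme.Hom.comp_app, CommRingCat.comp_apply]
    conv_lhs => enter [2]; tactic => exact AffineSpace.reindex_appTop_coord _ _ _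
    conv_rhs => enter [2]; tactic => exact AffineSpace.SpecIso_inv_appTop_coord _ _
    rw [AffineSpace.SpecIso_inv_appTop_coord, ← CommRingCat.comp_apply, ← Scheme.ΓSpecIso_inv_naturality,
        CommRingCat.comp_apply, ConcreteCategory.hom_ofHom]
    congr 1
    exact (MvPolynomial.rename_X i _).symm

theorem isPullback_reindex {m n : Type u} (i : m → n) {X Y : Scheme.{u}} (f : X ⟶ Y) :
    IsPullback (AffineSpace.reindex i X) (AffineSpace.map n f) (AffineSpace.map m f) (AffineSpace.reindex i Y) := by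
  refine IsPullback.of_right ?_ (AffineSpace.map_reindex i f).symm (AffineSpace.isPullback_map f).flip
  simpa using (AffineSpace.isPullback_map (n := n) f).flip

theorem exists_finite_level {σ : Type u} {X : Scheme.{u}} (O : Set 𝔸(σ; X)) (hO : IsOpen O) (z : 𝔸(σ; X)) (hz : z ∈ O) :
    ∃ (s : Finset σ) (W : 𝔸({x // x ∈ s}; X).Opens),
      AffineSpace.reindex Subtype.val X z ∈ W ∧ AffineSpace.reindex (Subtype.val : {x // x ∈ s} → σ) X ⁻¹' W ⊆ O := by
  obtain ⟨i, x, hx⟩ := X.affineCover.exists_eq ((𝔸(σ; X) ↘ X) z)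
  obtain ⟨R, ι, hι, hzι⟩ : ∃ (R : CommRingCat.{u}) (ι : Spec R ⟶ X), IsOpenImmersion ι ∧ (𝔸(σ; X) ↘ X) z ∈ Set.range ι :=
    ⟨_, X.affineCover.f i, X.affineCover.map_prop i, x, hx⟩
  have hopen : IsOpenImmersion (AffineSpace.map σ ι) :=
    MorphismProperty.of_isPullback (AffineSpace.isPullback_map (n := σ) ι).flip hι
  obtain ⟨w, hw⟩ : z ∈ Set.range (AffineSpace.map σ ι) := by
    obtain ⟨x', hx'⟩ := hzι
    obtain ⟨w, hw, -⟩ := Scheme.exists_preimage_of_isPullback (AffineSpace.isPullback_map (n := σ) ι) z x' hx'.symm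
    exact ⟨w, hw⟩
  let e := (AffineSpace.SpecIso σ R).hom
  let U : Set (Spec (CommRingCat.of (MvPolynomial σ R))) :=
    (AffineSpace.SpecIso σ R).inv ⁻¹' (AffineSpace.map σ ι ⁻¹' O)
  have hU : IsOpen U := (hO.preimage (Scheme.Hom.continuous _)).preimage (Scheme.Hom.continuous _)
  have hwU : e w ∈ U := by
    change AffineSpace.map σ ι ((AffineSpace.SpecIso σ R).inv ((AffineSpace.SpecIso σ R).hom w)) ∈ O
    rw [← Scheme.Hom.comp_apply (AffineSpace.SpecIso σ R).hom, Iso.hom_inv_id]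
    exact hw ▸ hz
  obtain ⟨_, ⟨h, rfl⟩, hwh, hhU⟩ := PrimeSpectrum.isTopologicalBasis_basic_opens.exists_subset_of_mem_open hwU hU
  obtain ⟨s, h', rfl⟩ := MvPolynomial.exists_finset_rename h
  let m := {x // x ∈ s}
  have hopen' : IsOpenImmersion (AffineSpace.map m ι) :=
    MorphismProperty.of_isPullback (AffineSpace.isPullback_map (n := m) ι).flip hι
  let W' : Set 𝔸(m; Spec R) := (AffineSpace.SpecIso m R).hom ⁻¹' ((PrimeSpectrum.basicOpen h' : Opens (PrimeSpectrum (MvPolynomial m R))) : Set (PrimeSpectrum (MvPolynomial m R)))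
  have hW' : IsOpen W' := (PrimeSpectrum.basicOpen h').isOpen.preimage (Scheme.Hom.continuous _)
  have key : ∀ v : 𝔸(σ; Spec R), AffineSpace.reindex (Subtype.val : m → σ) (Spec R) v ∈ W' ↔
      e v ∈ (PrimeSpectrum.basicOpen (MvPolynomial.rename Subtype.val h') : Set (PrimeSpectrum (MvPolynomial σ R))) := by
    intro v
    rw [reindex_SpecMap]
    simp only [W', Set.mem_preimage, ← Scheme.Hom.comp_apply, Category.assoc]
    rw [Iso.inv_hom_id, Category.comp_id]
    rfl
  refine ⟨s, ⟨AffineSpace.map m ι '' W', (AffineSpace.map m ι).isOpenEmbedding.isOpenMap _ hW'⟩, ?_, ?_⟩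
  · refine ⟨AffineSpace.reindex Subtype.val _ w, (key w).mpr hwh, ?_⟩
    rw [← hw, ← Scheme.Hom.comp_apply, ← AffineSpace.map_reindex, Scheme.Hom.comp_apply]
  · change AffineSpace.reindex Subtype.val X ⁻¹' (AffineSpace.map m ι '' W') ⊆ O
    rw [← Scheme.image_preimage_eq_of_isPullback (isPullback_reindex (Subtype.val : m → σ) ι)]
    rintro _ ⟨v, hv, rfl⟩
    have := hhU ((key v).mp hv)
    change AffineSpace.map σ ι ((AffineSpace.SpecIso σ R).inv ((AffineSpace.SpecIso σ R).hom v)) ∈ O at this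
    rwa [← Scheme.Hom.comp_apply (AffineSpace.SpecIso σ R).hom, Iso.hom_inv_id] at this

theorem map_isClosedOpen_transfer {X Y : Scheme.{u}} (f : X ⟶ Y) {σ τ : Type u} (e : σ ≃ τ) :
    (IsOpenMap (AffineSpace.map σ f) → IsOpenMap (AffineSpace.map τ f)) ∧
    (IsClosedMap (AffineSpace.map σ f) → IsClosedMap (AffineSpace.map τ f)) := by
  have h := isPullback_reindex (e : σ → τ) f
  have hiso : IsIso (AffineSpace.reindex (e : σ → τ) X) := by
    refine ⟨AffineSpace.reindex e.symm X, ?_, ?_⟩ <;> ext1 <;> simp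
  exact ⟨isOpenMap_of_isPullback_inducing h (AffineSpace.reindex (e : σ → τ) X).homeomorph.isInducing,
    isClosedMap_of_isPullback_inducing h (AffineSpace.reindex (e : σ → τ) X).homeomorph.isInducing⟩

variable {X Y : Scheme.{u}} (f : X ⟶ Y)

theorem finset_open (H : ∀ n : ℕ, IsOpenMap (AffineSpace.map (ULift.{u} (Fin n)) f)) (m : Type u) [Finite m] :
    IsOpenMap (AffineSpace.map m f) := by
  obtain ⟨n, ⟨e⟩⟩ := Finite.exists_equiv_fin m
  exact (map_isClosedOpen_transfer f (e.trans Equiv.ulift.symm).symm).1 (H n)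

theorem finset_closed (H : ∀ n : ℕ, IsClosedMap (AffineSpace.map (ULift.{u} (Fin n)) f)) (m : Type u) [Finite m] :
    IsClosedMap (AffineSpace.map m f) := by
  obtain ⟨n, ⟨e⟩⟩ := Finite.exists_equiv_fin m
  exact (map_isClosedOpen_transfer f (e.trans Equiv.ulift.symm).symm).2 (H n)

theorem isOpenMap_any (H : ∀ n : ℕ, IsOpenMap (AffineSpace.map (ULift.{u} (Fin n)) f)) (σ : Type u) :
    IsOpenMap (AffineSpace.map σ f) := by
  intro O hO
  refine isOpen_iff_forall_mem_open.mpr ?_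
  rintro _ ⟨z, hz, rfl⟩
  obtain ⟨s, W, hzW, hsub⟩ := exists_finite_level O hO z hz
  refine ⟨AffineSpace.map σ f '' (AffineSpace.reindex (Subtype.val : {x // x ∈ s} → σ) X ⁻¹' W),
    Set.image_mono hsub, ?_, ⟨z, hzW, rfl⟩⟩
  rw [Scheme.image_preimage_eq_of_isPullback (isPullback_reindex _ f)]
  exact (finset_open f H {x // x ∈ s} _ W.isOpen).preimage (Scheme.Hom.continuous _)

theorem isClosedMap_any [QuasiCompact f] (H : ∀ n : ℕ, IsClosedMap (AffineSpace.map (ULift.{u} (Fin n)) f)) (σ : Type u) :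
    IsClosedMap (AffineSpace.map σ f) := by
  classical
  intro C hC
  rw [← isOpen_compl_iff, isOpen_iff_forall_mem_open]
  intro t ht
  have : QuasiCompact (AffineSpace.map σ f) :=
    MorphismProperty.of_isPullback (AffineSpace.isPullback_map (n := σ) f).flip ‹QuasiCompact f›
  have hK : IsCompact (AffineSpace.map σ f ⁻¹' {t}) := (AffineSpace.map σ f).isCompact_preimage_singleton t
  have key : ∀ z : AffineSpace.map σ f ⁻¹' {t}, ∃ (s : Finset σ) (W : 𝔸({x // x ∈ s}; X).Opens),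
      AffineSpace.reindex Subtype.val X z.1 ∈ W ∧ AffineSpace.reindex (Subtype.val : {x // x ∈ s} → σ) X ⁻¹' W ⊆ Cᶜ :=
    fun z ↦ exists_finite_level _ hC.isOpen_compl _ fun hzC ↦ ht ⟨z.1, hzC, z.2⟩
  choose s W hzW hsub using key
  obtain ⟨T, hT⟩ := hK.elim_finite_subcover (fun z ↦ AffineSpace.reindex (Subtype.val : {x // x ∈ s z} → σ) X ⁻¹' (W z : Set _))
    (fun z ↦ (W z).isOpen.preimage (Scheme.Hom.continuous _)) (fun z hz ↦ Set.mem_iUnion.mpr ⟨⟨z, hz⟩, by exact hzW ⟨z, hz⟩⟩)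
  let S := T.biUnion s
  let m := {x // x ∈ S}
  let π := AffineSpace.reindex (Subtype.val : m → σ) X
  let W0 : Set 𝔸(m; X) := ⋃ z ∈ T, ⋃ (h : s z ⊆ S),
    AffineSpace.reindex (fun x : {x // x ∈ s z} ↦ (⟨x.1, h x.2⟩ : m)) X ⁻¹' (W z : Set _)
  have hW0 : IsOpen W0 :=
    isOpen_iUnion fun z ↦ isOpen_iUnion fun _ ↦ isOpen_iUnion fun _ ↦ (W z).isOpen.preimage (Scheme.Hom.continuous _)
  have hπ : ∀ z (h : s z ⊆ S) (v : 𝔸(σ; X)), AffineSpace.reindex (fun x : {x // x ∈ s z} ↦ (⟨x.1, h x.2⟩ : m)) X (π v) =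
      AffineSpace.reindex (Subtype.val : {x // x ∈ s z} → σ) X v := by
    intro z h v
    have e : π ≫ AffineSpace.reindex (fun x : {x // x ∈ s z} ↦ (⟨x.1, h x.2⟩ : m)) X =
        AffineSpace.reindex (Subtype.val : {x // x ∈ s z} → σ) X := by
      ext1 <;> simp [π]
    rw [← Scheme.Hom.comp_apply, e]
  have hfib : AffineSpace.map σ f ⁻¹' {t} ⊆ π ⁻¹' W0 := by
    intro v hv
    obtain ⟨z, hzT, hvz⟩ := Set.mem_iUnion₂.mp (hT hv)
    have hS : s z ⊆ S := Finset.subset_biUnion_of_mem _ hzT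
    simp only [W0, Set.mem_preimage, Set.mem_iUnion]
    exact ⟨z, hzT, hS, by rw [hπ]; exact hvz⟩
  have hC' : C ⊆ π ⁻¹' W0ᶜ := by
    intro v hv hv'
    simp only [W0, Set.mem_iUnion, Set.mem_preimage] at hv'
    obtain ⟨z, hzT, hS, hvz⟩ := hv'
    rw [hπ] at hvz
    exact hsub z hvz hv
  refine ⟨(AffineSpace.map σ f '' (π ⁻¹' W0ᶜ))ᶜ, Set.compl_subset_compl.mpr (Set.image_mono hC'), ?_, ?_⟩
  · rw [isOpen_compl_iff, Scheme.image_preimage_eq_of_isPullback (isPullback_reindex _ f)]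
    exact (finset_closed f H m _ hW0.isClosed_compl).preimage (Scheme.Hom.continuous _)
  · rintro ⟨v, hv, hvt⟩
    exact hv (hfib hvt)

theorem exists_immersion_into_affineSpace {T : Scheme.{u}} [IsAffine T] (t : T ⟶ Y) :
    ∃ (σ : Type u) (j : T ⟶ 𝔸(σ; Y)), IsImmersion j ∧ j ≫ (𝔸(σ; Y) ↘ Y) = t := by
  refine ⟨Γ(T, ⊤), AffineSpace.homOfVector t id, ?_, AffineSpace.homOfVector_over _ _⟩
  have : IsClosedImmersion (AffineSpace.homOfVector t id ≫ AffineSpace.toSpecMvPoly _ Y) := by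
    rw [AffineSpace.homOfVector_toSpecMvPoly]
    change IsClosedImmersion (T.toSpecΓ ≫ Spec.map _)
    have : IsClosedImmersion (Spec.map (CommRingCat.ofHom (MvPolynomial.eval₂Hom
        ((algebraMap ℤ _).comp ULift.ringEquiv.toRingHom) (id : Γ(T, ⊤) → Γ(T, ⊤))))) :=
      IsClosedImmersion.spec_of_surjective _ fun a ↦ ⟨MvPolynomial.X a, MvPolynomial.eval₂Hom_X' _ _ _⟩
    infer_instance
  exact IsImmersion.of_comp _ (AffineSpace.toSpecMvPoly _ Y)

theorem test_affine {T : Scheme.{u}} [IsAffine T] (t : T ⟶ Y) :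
    ((∀ σ : Type u, IsOpenMap (AffineSpace.map σ f)) → IsOpenMap (pullback.fst t f)) ∧
    ((∀ σ : Type u, IsClosedMap (AffineSpace.map σ f)) → IsClosedMap (pullback.fst t f)) := by
  obtain ⟨σ, j, hj, hjt⟩ := exists_immersion_into_affineSpace t
  have h0 := (AffineSpace.isPullback_map (n := σ) f)
  have h : IsPullback (h0.lift (pullback.fst t f ≫ j) (pullback.snd t f) (by rw [Category.assoc, hjt, pullback.condition]))
      (pullback.fst t f) (AffineSpace.map σ f) j := by
    refine IsPullback.of_right ?_ (h0.lift_fst _ _ _) h0.flip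
    rw [IsPullback.lift_snd, hjt]
    exact (IsPullback.of_hasPullback t f).flip
  have : IsImmersion (h0.lift (pullback.fst t f ≫ j) (pullback.snd t f) (by rw [Category.assoc, hjt, pullback.condition])) :=
    MorphismProperty.of_isPullback h.flip hj
  exact ⟨fun H ↦ isOpenMap_of_isPullback_inducing h (Scheme.Hom.isEmbedding _).isInducing (H σ),
    fun H ↦ isClosedMap_of_isPullback_inducing h (Scheme.Hom.isEmbedding _).isInducing (H σ)⟩

theorem universallyOpen_of_affineSpace (H : ∀ n : ℕ, IsOpenMap (AffineSpace.map (ULift.{u} (Fin n)) f)) :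
    UniversallyOpen f := by
  refine ⟨universally_mk' _ _ fun {T} t _ ↦ ?_⟩
  refine (IsZariskiLocalAtTarget.iff_of_openCover (P := topologically IsOpenMap) T.affineCover).mpr fun i ↦ ?_
  refine (MorphismProperty.cancel_left_of_respectsIso _
    ((pullbackRightPullbackFstIso ..).inv ≫ (pullbackSymmetry ..).hom) _).mp ?_
  simpa [Scheme.Cover.pullbackHom] using! (test_affine f (T.affineCover.f i ≫ t)).1 (isOpenMap_any f H)

theorem universallyClosed_of_affineSpace [QuasiCompact f] (H : ∀ n : ℕ, IsClosedMap (AffineSpace.map (ULift.{u} (Fin n)) f)) :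
    UniversallyClosed f := by
  refine ⟨universally_mk' _ _ fun {T} t _ ↦ ?_⟩
  have : IsZariskiLocalAtTarget (topologically @IsClosedMap : MorphismProperty Scheme.{u}) :=
    topologically_isZariskiLocalAtTarget' _ fun _ _ _ hU _ ↦ hU.isClosedMap_iff_restrictPreimage
  refine (IsZariskiLocalAtTarget.iff_of_openCover (P := topologically @IsClosedMap) T.affineCover).mpr fun i ↦ ?_
  refine (MorphismProperty.cancel_left_of_respectsIso _
    ((pullbackRightPullbackFstIso ..).inv ≫ (pullbackSymmetry ..).hom) _).mp ?_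
  simpa [Scheme.Cover.pullbackHom] using! (test_affine f (T.affineCover.f i ≫ t)).2 (isClosedMap_any f H)

theorem isOpenMap_map_of_snd (n : Type u) (h : IsOpenMap (pullback.snd f (𝔸(n; Y) ↘ Y))) :
    IsOpenMap (AffineSpace.map n f) := by
  let e := (AffineSpace.isPullback_map (n := n) f).flip.isoPullback
  rw [← (AffineSpace.isPullback_map (n := n) f).flip.isoPullback_hom_snd]
  exact h.comp e.hom.homeomorph.isOpenMap

theorem isClosedMap_map_of_snd (n : Type u) (h : IsClosedMap (pullback.snd f (𝔸(n; Y) ↘ Y))) :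
    IsClosedMap (AffineSpace.map n f) := by
  let e := (AffineSpace.isPullback_map (n := n) f).flip.isoPullback
  rw [← (AffineSpace.isPullback_map (n := n) f).flip.isoPullback_hom_snd]
  exact h.comp e.hom.homeomorph.isClosedMap

theorem universallyOpen_iff :
    UniversallyOpen f ↔ ∀ n : ℕ, IsOpenMap (AffineSpace.map (ULift.{u} (Fin n)) f) := by
  refine ⟨fun _ n ↦ ?_, universallyOpen_of_affineSpace f⟩
  have : UniversallyOpen (AffineSpace.map (ULift.{u} (Fin n)) f) :=
    MorphismProperty.of_isPullback (AffineSpace.isPullback_map f).flip ‹_›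
  exact Scheme.Hom.isOpenMap _

theorem universallyOpen_of_snd (h : ∀ n : ℕ, 0 < n →
      IsOpenMap ⇑(pullback.snd f (AffineSpace (ULift.{u} (Fin n)) Y ↘ Y))) : UniversallyOpen f := by
  refine universallyOpen_of_affineSpace f fun n ↦ ?_
  rcases n.eq_zero_or_pos with rfl | hn
  · let i : ULift.{u} (Fin 0) → ULift.{u} (Fin 1) := fun x ↦ x.down.elim0
    intro O hO
    have h1 := isOpenMap_map_of_snd f _ (h 1 one_pos) _ (hO.preimage (AffineSpace.reindex i X).continuous)
    rw [Scheme.image_preimage_eq_of_isPullback (isPullback_reindex i f)] at h1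
    have hs : Surjective (AffineSpace.reindex i Y) := by
      refine ⟨fun y ↦ ?_⟩
      obtain ⟨z, hz⟩ := (𝔸(ULift.{u} (Fin 1); Y) ↘ Y).surjective ((𝔸(ULift.{u} (Fin 0); Y) ↘ Y) y)
      refine ⟨z, (inferInstance : IsIso (𝔸(ULift.{u} (Fin 0); Y) ↘ Y)) |> fun _ ↦ (𝔸(ULift.{u} (Fin 0); Y) ↘ Y).homeomorph.injective ?_⟩
      change (𝔸(ULift.{u} (Fin 0); Y) ↘ Y) (AffineSpace.reindex i Y z) = (𝔸(ULift.{u} (Fin 0); Y) ↘ Y) y
      rw [← Scheme.Hom.comp_apply, AffineSpace.reindex_over, hz]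
    have ho : IsOpenMap (AffineSpace.reindex i Y) := by
      have := AffineSpace.isOpenMap_over (n := ULift.{u} (Fin 1)) (S := Y)
      rw [← AffineSpace.reindex_over i Y] at this
      intro V hV
      have h2 := (this V hV).preimage (𝔸(ULift.{u} (Fin 0); Y) ↘ Y).continuous
      rwa [Scheme.Hom.comp_base, TopCat.coe_comp, Set.image_comp, Set.preimage_image_eq _ (𝔸(ULift.{u} (Fin 0); Y) ↘ Y).isOpenEmbedding.injective] at h2
    have := ho _ h1
    rwa [Set.image_preimage_eq _ hs.surj] at this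
  · exact isOpenMap_map_of_snd f _ (h n hn)

theorem universallyClosed_iff_snd [QuasiCompact f] :
    UniversallyClosed f ↔ ∀ n : ℕ, IsClosedMap (pullback.snd f (𝔸(ULift.{u} (Fin n); Y) ↘ Y)).base :=
  ⟨fun _ n ↦ (pullback.snd f (𝔸(ULift.{u} (Fin n); Y) ↘ Y)).isClosedMap,
    fun H ↦ universallyClosed_of_affineSpace f fun _ ↦ isClosedMap_map_of_snd f _ (H _)⟩

theorem universallyClosed_iff_lfp [QuasiCompact f] :
    UniversallyClosed f ↔ ∀ (S' : Scheme.{u}) (g : S' ⟶ Y), LocallyOfFinitePresentation g →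
      IsClosedMap (pullback.snd f g).base :=
  ⟨fun _ _ g _ ↦ (pullback.snd f g).isClosedMap,
    fun H ↦ (universallyClosed_iff_snd f).mpr fun _ ↦ H _ _ inferInstance⟩

end Groth.Agent.AffTest
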